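import Mathlib.Algebra.Polynomial.Expand
import Mathlib.Algebra.CharP.Lemmas
import Mathlib.Algebra.CharP.Algebra
import Mathlib.Algebra.Polynomial.Reverse
import Mathlib.RingTheory.Polynomial.Wronskian
import Mathlib.RingTheory.Polynomial.UniqueFactorization
import Mathlib.RingTheory.Polynomial.Content
import Mathlib.RingTheory.PrincipalIdealDomain
import Mathlib.Tactic.LinearCombination

/-!
# Wronskians of pairs of polynomials in characteristic `p`
-/

set_option autoImplicit false

universe u

open Polynomial

namespace GrothLib.InsepLimit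

section Ring

variable {R : Type u} [CommRing R]

theorem wronskian_comb (F G a b c e : R[X]) (ha : derivative a = 0) (hb : derivative b = 0)
    (hc : derivative c = 0) (he : derivative e = 0) :
    wronskian (a * F + b * G) (c * F + e * G) = (a * e - b * c) * wronskian F G := by
  simp only [wronskian, derivative_add, derivative_mul, ha, hb, hc, he, zero_mul, zero_add]
  ring

theorem wronskian_map {S : Type u} [CommRing S] (f : R →+* S) (F G : R[X]) :
    wronskian (F.map f) (G.map f) = (wronskian F G).map f := by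
  simp [wronskian, derivative_map]

theorem wronskian_mul_left_const (F G t : R[X]) (ht : derivative t = 0) :
    wronskian (t * F) G = t * wronskian F G := by
  simp only [wronskian, derivative_mul, ht, zero_mul, zero_add]
  ring

theorem wronskian_mul_right_const (F G t : R[X]) (ht : derivative t = 0) :
    wronskian F (t * G) = t * wronskian F G := by
  simp only [wronskian, derivative_mul, ht, zero_mul, zero_add]
  ring

theorem coeff_wronskian_top (P Q : R[X]) (a b : ℕ) (ha : P.natDegree ≤ a) (hb : Q.natDegree ≤ b)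
    (hab : 1 ≤ a + b) :
    (wronskian P Q).coeff (a + b - 1) = ((b : R) - a) * P.coeff a * Q.coeff b := by
  have h1 : (P * derivative Q).coeff (a + b - 1) = (b : R) * P.coeff a * Q.coeff b := by
    rcases b with _ | b
    · have : derivative Q = 0 := by
        rw [eq_C_of_natDegree_le_zero hb, derivative_C]
      simp [this]
    · rw [show a + (b + 1) - 1 = a + b by omega,
        coeff_mul_add_eq_of_natDegree_le ha (le_trans (natDegree_derivative_le Q) (by omega)), coeff_derivative]
      push_cast; ring
  have h2 : (derivative P * Q).coeff (a + b - 1) = (a : R) * P.coeff a * Q.coeff b := by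
    rcases a with _ | a
    · have : derivative P = 0 := by
        rw [eq_C_of_natDegree_le_zero ha, derivative_C]
      simp [this]
    · rw [show a + 1 + b - 1 = a + b by omega,
        coeff_mul_add_eq_of_natDegree_le (le_trans (natDegree_derivative_le P) (by omega)) hb, coeff_derivative]
      push_cast; ring
  rw [wronskian, coeff_sub, h1, h2]
  ring

theorem natDegree_wronskian_le (P Q : R[X]) (d : ℕ) (hP : P.natDegree ≤ d) (hQ : Q.natDegree ≤ d) :
    (wronskian P Q).natDegree ≤ 2 * d - 2 := by
  rcases eq_or_ne (wronskian P Q) 0 with h | h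
  · simp [h]
  have hlt := natDegree_wronskian_lt_add h
  rw [natDegree_le_iff_coeff_eq_zero]
  intro N hN
  rcases lt_or_ge (wronskian P Q).natDegree N with h' | h'
  · exact coeff_eq_zero_of_natDegree_lt h'
  · have hN' : N = d + d - 1 := by omega
    subst hN'
    rw [coeff_wronskian_top P Q d d hP hQ (by omega)]
    simp

theorem wronskian_monomial (a b : R) (i j : ℕ) :
    wronskian (C a * X ^ i) (C b * X ^ j) = C (a * b * ((j : R) - i)) * X ^ (i + j - 1) := by
  simp only [wronskian, derivative_C_mul, derivative_X_pow, C_mul, C_sub]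
  rcases i with _ | i <;> rcases j with _ | j
  · simp
  · simp; ring
  · simp; ring
  · rw [show i + 1 + (j + 1) - 1 = i + j + 1 by omega]
    simp only [Nat.add_sub_cancel, pow_add, pow_one, Nat.cast_add, Nat.cast_one, C_add, C_1]
    ring

theorem wronskian_reflect (F G : R[X]) (d : ℕ) (hF : F.natDegree ≤ d) (hG : G.natDegree ≤ d) :
    wronskian (reflect d F) (reflect d G) = -reflect (2 * d - 2) (wronskian F G) := by
  have main : ∀ i j (a b : R), i ≤ d → j ≤ d →
      wronskian (reflect d (C a * X ^ i)) (reflect d (C b * X ^ j)) =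
        -reflect (2 * d - 2) (wronskian (C a * X ^ i) (C b * X ^ j)) := by
    intro i j a b hi hj
    rw [reflect_C_mul_X_pow, reflect_C_mul_X_pow, wronskian_monomial, wronskian_monomial, revAt_le hi, revAt_le hj,
      reflect_C_mul_X_pow, ← neg_mul, ← C_neg, Nat.cast_sub hi, Nat.cast_sub hj]
    rcases eq_or_ne i j with rfl | hne
    · simp
    · rw [revAt_le (by omega), show d - i + (d - j) - 1 = 2 * d - 2 - (i + j - 1) by omega]
      congr 2
      ring
  refine induction_with_natDegree_le
    (fun F => ∀ G : R[X], G.natDegree ≤ d →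
      wronskian (reflect d F) (reflect d G) = -reflect (2 * d - 2) (wronskian F G)) d ?_ ?_ ?_ F hF G hG
  · intro G _; simp
  · intro i a _ hi G hG
    refine induction_with_natDegree_le
      (fun G => wronskian (reflect d (C a * X ^ i)) (reflect d G) =
        -reflect (2 * d - 2) (wronskian (C a * X ^ i) G)) d ?_ ?_ ?_ G hG
    · simp
    · exact fun j b _ hj => main i j a b hi hj
    · intro f g _ _ h1 h2
      simp only [reflect_add, wronskian_add_right, h1, h2, neg_add]
  · intro f g _ _ h1 h2 G hG
    simp only [reflect_add, wronskian_add_left, h1 G hG, h2 G hG, neg_add]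

theorem reflect_map' {S : Type u} [CommRing S] (f : R →+* S) (d : ℕ) (F : R[X]) :
    (reflect d F).map f = reflect d (F.map f) := by
  ext i; simp [coeff_reflect]

theorem pow_dvd_wronskian_of_pow_dvd {q S Q : R[X]} {e : ℕ} (h : q ^ e ∣ S) :
    q ^ (e - 1) ∣ wronskian S Q :=
  dvd_sub (dvd_mul_of_dvd_left ((pow_dvd_pow q (Nat.sub_le e 1)).trans h) _)
    (dvd_mul_of_dvd_left (pow_sub_one_dvd_derivative_of_pow_dvd h) _)

theorem pow_dvd_wronskian {q S Q : R[X]} {e : ℕ} (he : 1 ≤ e) (h : q ^ e ∣ S) (hQ : q ∣ Q) :
    q ^ e ∣ wronskian S Q := by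
  refine dvd_sub (dvd_mul_of_dvd_left h _) ?_
  have := mul_dvd_mul (pow_sub_one_dvd_derivative_of_pow_dvd h) hQ
  rwa [← pow_succ, Nat.sub_add_cancel he] at this

end Ring

section CharP

variable {k : Type u} [Field k] (p : ℕ) [Fact p.Prime] [CharP k p]
include p

theorem dvd_natDegree_of_derivative_eq_zero {t : k[X]} (ht : derivative t = 0) : p ∣ t.natDegree := by
  rcases eq_or_ne t 0 with rfl | h0
  · simp
  rcases Nat.eq_zero_or_pos t.natDegree with h | h
  · simp [h]
  have := congrArg (coeff · (t.natDegree - 1)) ht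
  simp only [coeff_derivative, coeff_zero, Nat.sub_add_cancel h] at this
  rcases mul_eq_zero.1 this with h1 | h1
  · exact absurd h1 (leadingCoeff_ne_zero.2 h0)
  · rw [← Nat.cast_add_one, Nat.sub_add_cancel h] at h1
    exact (CharP.cast_eq_zero_iff k p _).1 h1

theorem dvd_natTrailingDegree_of_derivative_eq_zero {t : k[X]} (ht : derivative t = 0) :
    p ∣ t.natTrailingDegree := by
  rcases eq_or_ne t 0 with rfl | h0
  · simp
  rcases Nat.eq_zero_or_pos t.natTrailingDegree with h | h
  · simp [h]
  have := congrArg (coeff · (t.natTrailingDegree - 1)) ht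
  simp only [coeff_derivative, coeff_zero, Nat.sub_add_cancel h] at this
  rcases mul_eq_zero.1 this with h1 | h1
  · exact absurd h1 (trailingCoeff_nonzero_iff_nonzero.2 h0)
  · rw [← Nat.cast_add_one, Nat.sub_add_cancel h] at h1
    exact (CharP.cast_eq_zero_iff k p _).1 h1

theorem pow_char_dvd_sub_C_eval {t : k[X]} (ht : derivative t = 0) (c : k) :
    (X - C c) ^ p ∣ t - C (t.eval c) := by
  have hp : p ≠ 0 := (Fact.out : p.Prime).ne_zero
  obtain ⟨t1, rfl⟩ : ∃ t1, expand k p t1 = t := ⟨contract p t, expand_contract p ht hp⟩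
  rw [expand_eval, sub_pow_char, ← C_pow]
  have := map_dvd (expand k p) (X_sub_C_dvd_sub_C_eval (a := c ^ p) (p := t1))
  simpa using this

theorem exists_reduced {f g : k[X]} (hf : f ≠ 0) (hw : wronskian f g = 0) :
    ∃ q s t u v : k[X], derivative s = 0 ∧ derivative t = 0 ∧ derivative u = 0 ∧ derivative v = 0 ∧
      f = s * q ∧ g = t * q ∧ u * s + v * t = 1 := by
  have hp : p ≠ 0 := (Fact.out : p.Prime).ne_zero
  obtain ⟨s, t, q, hrel, hs, ht⟩ := UniqueFactorizationMonoid.exists_reduced_factors f hf g
  have hq : q ≠ 0 := by rintro rfl; exact hf (by simpa using hs.symm)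
  have hco : IsCoprime s t := hrel.isCoprime
  have h0 : wronskian s t = 0 := by
    have e : wronskian f g = q ^ 2 * wronskian s t := by
      rw [← hs, ← ht]; simp only [wronskian, derivative_mul]; ring
    rw [hw] at e
    exact (mul_eq_zero.1 e.symm).resolve_left (pow_ne_zero _ hq)
  obtain ⟨hs', ht'⟩ := hco.wronskian_eq_zero_iff.1 h0
  obtain ⟨u0, v0, huv⟩ := hco
  have hu : ∀ u : k[X], derivative (expand k p (contract p u)) = 0 := fun u => by
    rw [derivative_expand, CharP.cast_eq_zero]; simp
  refine ⟨q, s, t, expand k p (contract p u0), expand k p (contract p v0), hs', ht', hu _, hu _,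
    by rw [← hs, mul_comm], by rw [← ht, mul_comm], ?_⟩
  have e1 := expand_contract p hs' hp
  have e2 := expand_contract p ht' hp
  have h1 : contract p (u0 * s + v0 * t) = contract p u0 * contract p s + contract p v0 * contract p t := by
    rw [← contract_mul_expand hp u0 (contract p s), ← contract_mul_expand hp v0 (contract p t), e1, e2]
    ext i; simp [coeff_contract hp]
  have hone : contract p (1 : k[X]) = 1 := by
    ext i
    simp [coeff_contract hp, coeff_one, hp]
  calc expand k p (contract p u0) * s + expand k p (contract p v0) * t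
      = expand k p (contract p u0 * contract p s + contract p v0 * contract p t) := by
        rw [map_add, map_mul, map_mul, e1, e2]
    _ = 1 := by rw [← h1, huv, hone, map_one]

theorem exists_partner (h r₀ w : k[X]) (d : ℕ) (hw : wronskian h r₀ = w) (hw0 : w ≠ 0)
    (hdeg : w.natDegree = 2 * d - 2) (hd : 1 ≤ d) (hh : h.natDegree + h.natDegree + 1 < 2 * d) :
    ∃ r T : k[X], derivative T = 0 ∧ r₀ = r + T * h ∧ wronskian h r = w ∧
      h.natDegree + r.natDegree + 1 = 2 * d := by
  classical
  have hex : ∃ b, ∃ r T : k[X], r.natDegree = b ∧ derivative T = 0 ∧ r₀ = r + T * h :=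
    ⟨_, r₀, 0, rfl, derivative_zero, by simp⟩
  obtain ⟨r, T, hb, hT, hr⟩ := Nat.find_spec hex
  have hW : wronskian h r = w := by
    rw [← hw, hr, wronskian_add_right, wronskian_mul_right_const _ _ _ hT, wronskian_self_eq_zero, mul_zero, add_zero]
  refine ⟨r, T, hT, hr, hW, ?_⟩
  have hlt := natDegree_wronskian_lt_add (hW.symm ▸ hw0 : wronskian h r ≠ 0)
  rw [hW, hdeg] at hlt
  have hge : h.natDegree < r.natDegree := by omega
  have hh0 : h ≠ 0 := fun h0 => hw0 (by rw [← hW, h0, wronskian_zero_left])
  have hr0 : r ≠ 0 := fun h0 => hw0 (by rw [← hW, h0, wronskian_zero_right])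
  by_cases hp : p ∣ r.natDegree - h.natDegree
  · exfalso
    let c : k := r.leadingCoeff / h.leadingCoeff
    let T' : k[X] := C c * X ^ (r.natDegree - h.natDegree)
    have hT' : derivative T' = 0 := by
      simp [T', derivative_X_pow, (CharP.cast_eq_zero_iff k p _).2 hp]
    have hr' : r₀ = (r - T' * h) + (T + T') * h := by rw [hr]; ring
    have hTh : (T' * h).natDegree ≤ r.natDegree := by
      refine natDegree_mul_le.trans ?_
      have : T'.natDegree ≤ r.natDegree - h.natDegree := natDegree_C_mul_X_pow_le _ _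
      omega
    have hco : (T' * h).coeff r.natDegree = r.leadingCoeff := by
      conv_lhs => rw [show r.natDegree = (r.natDegree - h.natDegree) + h.natDegree by omega]
      rw [coeff_mul_add_eq_of_natDegree_le (natDegree_C_mul_X_pow_le _ _) le_rfl, coeff_C_mul_X_pow, if_pos rfl]
      exact div_mul_cancel₀ _ (leadingCoeff_ne_zero.2 hh0)
    have hlt' : (r - T' * h).natDegree < r.natDegree := by
      have : (r - T' * h).natDegree ≤ r.natDegree - 1 := by
        rw [natDegree_le_iff_coeff_eq_zero]
        intro N hN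
        rw [coeff_sub]
        rcases eq_or_ne N r.natDegree with rfl | hne
        · rw [hco, coeff_natDegree, sub_self]
        · rw [coeff_eq_zero_of_natDegree_lt (by omega), coeff_eq_zero_of_natDegree_lt (by omega), sub_self]
      omega
    exact Nat.find_min hex (hb ▸ hlt') ⟨_, _, rfl, by rw [derivative_add, hT, hT', add_zero], hr'⟩
  · have htop : w.coeff (h.natDegree + r.natDegree - 1) ≠ 0 := by
      rw [← hW, coeff_wronskian_top h r _ _ le_rfl le_rfl (by omega), ← Nat.cast_sub hge.le]
      exact mul_ne_zero (mul_ne_zero (fun h0 => hp ((CharP.cast_eq_zero_iff k p _).1 h0))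
        (leadingCoeff_ne_zero.2 hh0)) (leadingCoeff_ne_zero.2 hr0)
    have := le_natDegree_of_ne_zero htop
    omega

theorem natTrailingDegree_reflect {f : k[X]} (hf : f ≠ 0) {d : ℕ} (hd : f.natDegree ≤ d) :
    (reflect d f).natTrailingDegree = d - f.natDegree := by
  have hne : reflect d f ≠ 0 := by rwa [ne_eq, reflect_eq_zero_iff]
  refine le_antisymm (natTrailingDegree_le_of_ne_zero ?_) (le_natTrailingDegree hne fun m hm => ?_)
  · rw [coeff_reflect, revAt_le (Nat.sub_le _ _), Nat.sub_sub_self hd]
    exact leadingCoeff_ne_zero.2 hf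
  · rw [coeff_reflect, revAt_le (by omega)]
    exact coeff_eq_zero_of_natDegree_lt (by omega)

end CharP

section Descent

variable {A k : Type u} [CommRing A] [IsDomain A] [Field k] (p : ℕ) [Fact p.Prime] [CharP k p]
variable (π : A) (red : A →+* k) (ι : k →+* A)

theorem map_derivative_zero {t : k[X]} (ht : derivative t = 0) : derivative (t.map ι) = 0 := by
  rw [derivative_map, ht, Polynomial.map_zero]

include p in
theorem descent (hπ : π ≠ 0) (hker : ∀ a, red a = 0 ↔ π ∣ a) (hι : ∀ x, red (ι x) = x) :
    ∀ (ν : ℕ) (F G W₀ : A[X]), F.map red ≠ 0 → wronskian F G = C (π ^ ν) * W₀ → W₀.map red ≠ 0 →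
      ∃ H R : A[X], wronskian H R = W₀ ∧
        (∃ t : k[X], derivative t = 0 ∧ F.map red = t * H.map red) ∧
        (ν ≠ 0 → ∃ t : k[X], derivative t = 0 ∧ G.map red = t * H.map red) ∧
        (∃ a b : A[X], derivative a = 0 ∧ derivative b = 0 ∧ F = a * H + b * R) ∧
        ∃ a b : A[X], derivative a = 0 ∧ derivative b = 0 ∧ G = a * H + b * R
  | 0, F, G, W₀, _, hW, _ => ⟨F, G, by simpa using hW, ⟨1, derivative_one, (one_mul _).symm⟩,
      fun h => absurd rfl h, ⟨1, 0, derivative_one, derivative_zero, by simp⟩,
      ⟨0, 1, derivative_zero, derivative_one, by simp⟩⟩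
  | ν + 1, F, G, W₀, hF, hW, hW₀ => by
    have hπ0 : red π = 0 := (hker π).2 dvd_rfl
    have hw : wronskian (F.map red) (G.map red) = 0 := by
      rw [wronskian_map, hW]; simp [hπ0]
    obtain ⟨q, s, t, u, v, hs, ht, hu, hv, hfs, hgt, huv⟩ := exists_reduced p hF hw
    have hmap : ∀ x : k[X], (x.map ι).map red = x := fun x => by
      rw [map_map, show red.comp ι = RingHom.id k from RingHom.ext hι, map_id]
    let H₁ : A[X] := u.map ι * F + v.map ι * G
    have hR : C π ∣ -t.map ι * F + s.map ι * G := by
      refine (C_dvd_iff_dvd_coeff _ _).2 fun i => (hker _).1 ?_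
      rw [← coeff_map]
      have : (-t.map ι * F + s.map ι * G).map red = 0 := by
        simp only [Polynomial.map_add, Polynomial.map_mul, Polynomial.map_neg, hmap, hfs, hgt]; ring
      rw [this, coeff_zero]
    obtain ⟨R₁, hR₁⟩ := hR
    have huv' : u.map ι * s.map ι + v.map ι * t.map ι = 1 := by
      rw [← Polynomial.map_mul, ← Polynomial.map_mul, ← Polynomial.map_add, huv, Polynomial.map_one]
    have hCπ : derivative (C π) = (0 : A[X]) := derivative_C
    have hW₁ : wronskian H₁ R₁ = C (π ^ ν) * W₀ := by
      refine mul_left_cancel₀ (C_ne_zero.2 hπ) ?_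
      calc C π * wronskian H₁ R₁ = wronskian H₁ (C π * R₁) := (wronskian_mul_right_const _ _ _ hCπ).symm
        _ = (u.map ι * s.map ι - v.map ι * -t.map ι) * wronskian F G := by
          rw [← hR₁]
          exact wronskian_comb F G _ _ _ _ (map_derivative_zero ι hu) (map_derivative_zero ι hv)
            (by rw [derivative_neg, map_derivative_zero ι ht, neg_zero]) (map_derivative_zero ι hs)
        _ = C π * (C (π ^ ν) * W₀) := by
          rw [mul_neg, sub_neg_eq_add, huv', one_mul, hW, ← mul_assoc, ← C_mul, ← pow_succ']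
    have hH₁ : H₁.map red = q := by
      simp only [H₁, Polynomial.map_add, Polynomial.map_mul, hmap, hfs, hgt]
      linear_combination q * huv
    have hq : q ≠ 0 := by rintro rfl; exact hF (by rw [hfs, mul_zero])
    obtain ⟨H, R, hWHR, ⟨t₁, ht₁, hq'⟩, -, ⟨a, b, ha, hb, hab⟩, ⟨c, e, hc, he, hce⟩⟩ :=
      descent hπ hker hι ν H₁ R₁ W₀ (by rwa [hH₁]) hW₁ hW₀
    rw [hH₁] at hq'
    have hFeq : F = s.map ι * H₁ + (-v.map ι * C π) * R₁ := by
      rw [mul_assoc, ← hR₁]
      simp only [H₁]
      linear_combination -F * huv'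
    have hGeq : G = t.map ι * H₁ + (u.map ι * C π) * R₁ := by
      rw [mul_assoc, ← hR₁]
      simp only [H₁]
      linear_combination -G * huv'
    refine ⟨H, R, hWHR, ⟨s * t₁, by rw [derivative_mul, hs, ht₁]; simp, by rw [hfs, hq', mul_assoc]⟩,
      fun _ => ⟨t * t₁, by rw [derivative_mul, ht, ht₁]; simp, by rw [hgt, hq', mul_assoc]⟩,
      ⟨s.map ι * a + (-v.map ι * C π) * c, s.map ι * b + (-v.map ι * C π) * e, ?_, ?_, ?_⟩,
      ⟨t.map ι * a + (u.map ι * C π) * c, t.map ι * b + (u.map ι * C π) * e, ?_, ?_, ?_⟩⟩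
    all_goals first
      | (simp [derivative_mul, map_derivative_zero ι hs, map_derivative_zero ι ht,
          map_derivative_zero ι hu, map_derivative_zero ι hv, ha, hb, hc, he]; done)
      | (rw [hFeq, hab, hce]; ring)
      | (rw [hGeq, hab, hce]; ring)

end Descent

end GrothLib.InsepLimit
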