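import Groth.Agent.Lib.InsepLimit.Basic
import Groth.Prelude.Def_W4c1limliniiiiRamP1
import Mathlib.RingTheory.DiscreteValuationRing.Basic
import Mathlib.RingTheory.Valuation.ValuationRing
import Mathlib.RingTheory.LocalRing.ResidueField.Basic
import Mathlib.RingTheory.UniqueFactorizationDomain.Multiplicity
import Mathlib.LinearAlgebra.Dimension.Constructions

/-!
# Inseparable limits of pencils with prescribed ramification
-/

set_option autoImplicit false

universe u

open Polynomial W4c1limliniiii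

namespace GrothLib.InsepLimit

section Target

variable {n : ℕ} {k : Type u} [Field k] (c : Fin n → k) (E : Fin n → ℕ)

/-- The expected Wronskian. -/
noncomputable def Wr : k[X] := ∏ i, (X - C (c i)) ^ (E i - 1)

theorem monic_Wr : (Wr c E).Monic := monic_prod_of_monic _ _ fun i _ => (monic_X_sub_C _).pow _

theorem natDegree_Wr : (Wr c E).natDegree = ∑ i, (E i - 1) := by
  rw [Wr, natDegree_prod_of_monic _ _ fun i _ => (monic_X_sub_C _).pow _]
  simp

theorem not_pow_dvd_Wr (hc : Function.Injective c) {a : k} (ha : a ≠ 0) (i : Fin n) (hi : 1 ≤ E i) :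
    ¬ (X - C (c i)) ^ E i ∣ C a * Wr c E := by
  classical
  intro h
  rw [Wr, ← Finset.mul_prod_erase _ _ (Finset.mem_univ i), mul_left_comm] at h
  obtain ⟨j, hj⟩ : ∃ j, E i = j + 1 := ⟨E i - 1, by omega⟩
  rw [hj, pow_succ, Nat.add_sub_cancel, mul_dvd_mul_iff_left (pow_ne_zero _ (X_sub_C_ne_zero _)),
    dvd_iff_isRoot, IsRoot.def, eval_mul, eval_C, eval_prod] at h
  rcases mul_eq_zero.1 h with h | h
  · exact ha h
  · obtain ⟨l, hl, h0⟩ := Finset.prod_eq_zero_iff.1 h
    rw [eval_pow, eval_sub, eval_X, eval_C] at h0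
    exact (Finset.mem_erase.1 hl).1 (hc (sub_eq_zero.1 (pow_eq_zero_iff'.1 h0).1)).symm

theorem eval_Wr_ne_zero {x : k} (hx : ∀ i, x ≠ c i) : (Wr c E).eval x ≠ 0 := by
  rw [Wr, eval_prod]
  exact Finset.prod_ne_zero_iff.2 fun i _ => by
    simpa [eval_pow] using fun h => absurd (sub_eq_zero.1 h) (hx i)

variable (p : ℕ)

/-- A pair with the expected Wronskian gives a pencil with the expected ramification. -/
theorem mem_ramMaps_of_wronskian (hc : Function.Injective c) (hE : ∀ i, 2 ≤ E i) {a : k} (ha : a ≠ 0)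
    (h r : k[X]) (hW : wronskian h r = C a * Wr c E) {D : ℕ} (hh : h.natDegree ≤ D) (hr : r.natDegree ≤ D)
    (htop : ∃ s ∈ Submodule.span k ({h, r} : Set k[X]), s.natDegree = D)
    (hram : ∀ i, ∃ l μ : k, (l ≠ 0 ∨ μ ≠ 0) ∧ (X - C (c i)) ^ E i ∣ C l * h + C μ * r) :
    Submodule.span k {h, r} ∈ ramMaps D c E := by
  have hW0 : C a * Wr c E ≠ 0 := mul_ne_zero (C_ne_zero.2 ha) (monic_Wr c E).ne_zero
  have hind : ∀ l μ : k, C l * h + C μ * r = 0 → l = 0 ∧ μ = 0 := by
    intro l μ e
    have e1 : wronskian (C l * h + C μ * r) r = C l * (C a * Wr c E) := by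
      rw [wronskian_add_left, wronskian_mul_left_const _ _ _ derivative_C,
        wronskian_mul_left_const _ _ _ derivative_C, wronskian_self_eq_zero, mul_zero, add_zero, hW]
    have e2 : wronskian h (C l * h + C μ * r) = C μ * (C a * Wr c E) := by
      rw [wronskian_add_right, wronskian_mul_right_const _ _ _ derivative_C,
        wronskian_mul_right_const _ _ _ derivative_C, wronskian_self_eq_zero, mul_zero, zero_add, hW]
    rw [e, wronskian_zero_left] at e1
    rw [e, wronskian_zero_right] at e2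
    exact ⟨C_eq_zero.1 ((mul_eq_zero.1 e1.symm).resolve_right hW0),
      C_eq_zero.1 ((mul_eq_zero.1 e2.symm).resolve_right hW0)⟩
  have hmem : ∀ s, s ∈ Submodule.span k {h, r} ↔ ∃ l μ : k, C l * h + C μ * r = s := by
    intro s
    simp [Submodule.mem_span_pair, smul_eq_C_mul]
  have hself : ∀ l μ : k, C l * h + C μ * r ∈ Submodule.span k {h, r} := fun l μ =>
    (hmem _).2 ⟨l, μ, rfl⟩
  have hcomb : ∀ l μ : k, wronskian (C l * h + C μ * r) r = C l * (C a * Wr c E) ∧
      wronskian (C l * h + C μ * r) h = C (-μ) * (C a * Wr c E) := by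
    intro l μ
    constructor <;> rw [wronskian_add_left, wronskian_mul_left_const _ _ _ derivative_C,
        wronskian_mul_left_const _ _ _ derivative_C, wronskian_self_eq_zero]
    · rw [mul_zero, add_zero, hW]
    · rw [mul_zero, zero_add, ← wronskian_neg_eq, hW, C_neg, mul_neg, neg_mul]
  have hkey : ∀ i (l μ : k), (l ≠ 0 ∨ μ ≠ 0) →
      ((X - C (c i)) ^ (E i + 1) ∣ C l * h + C μ * r ∨
        ((X - C (c i)) ^ E i ∣ C l * h + C μ * r ∧ (X - C (c i)) ∣ h ∧ (X - C (c i)) ∣ r)) → False := by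
    intro i l μ hlμ hd
    have hd' : (X - C (c i)) ^ E i ∣ wronskian (C l * h + C μ * r) r ∧
        (X - C (c i)) ^ E i ∣ wronskian (C l * h + C μ * r) h := by
      rcases hd with hd | ⟨hd, h1, h2⟩
      · exact ⟨by simpa using pow_dvd_wronskian_of_pow_dvd (Q := r) hd,
          by simpa using pow_dvd_wronskian_of_pow_dvd (Q := h) hd⟩
      · exact ⟨pow_dvd_wronskian (by linarith [hE i]) hd h2, pow_dvd_wronskian (by linarith [hE i]) hd h1⟩
    rw [(hcomb l μ).1, (hcomb l μ).2, ← mul_assoc, ← mul_assoc, ← C_mul, ← C_mul] at hd'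
    rcases hlμ with hl | hμ
    · exact not_pow_dvd_Wr c E hc (mul_ne_zero hl ha) i (by linarith [hE i]) hd'.1
    · exact not_pow_dvd_Wr c E hc (mul_ne_zero (neg_ne_zero.2 hμ) ha) i (by linarith [hE i]) hd'.2
  refine ⟨⟨?_, ?_, htop, ?_⟩,
    ⟨h, Submodule.subset_span (by simp), r, Submodule.subset_span (by simp), hW ▸ hW0⟩, ?_⟩
  · refine Submodule.span_le.2 ?_
    rintro x (rfl | rfl)
    · exact mem_degreeLE.2 (natDegree_le_iff_degree_le.1 hh)
    · exact mem_degreeLE.2 (natDegree_le_iff_degree_le.1 hr)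
  · have li : LinearIndependent k ![h, r] := LinearIndependent.pair_iff.2 fun l μ e => hind l μ (by
      simpa [smul_eq_C_mul] using e)
    have := finrank_span_eq_card li
    rwa [Matrix.range_cons_cons_empty, Fintype.card_fin] at this
  · intro x
    by_contra hall
    push_neg at hall
    have h1 : h.eval x = 0 := hall h (Submodule.subset_span (by simp))
    have h2 : r.eval x = 0 := hall r (Submodule.subset_span (by simp))
    by_cases hx : ∃ i, x = c i
    · obtain ⟨i, rfl⟩ := hx
      obtain ⟨l, μ, hlμ, hd⟩ := hram i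
      exact hkey i l μ hlμ (Or.inr ⟨hd, dvd_iff_isRoot.2 h1, dvd_iff_isRoot.2 h2⟩)
    · push_neg at hx
      have e := congrArg (eval x) hW
      simp only [wronskian, eval_sub, eval_mul, h1, h2, zero_mul, mul_zero, sub_zero, eval_C] at e
      exact mul_ne_zero ha (eval_Wr_ne_zero c E hx) e.symm
  · intro i
    refine ⟨?_, ?_⟩
    · obtain ⟨l, μ, hlμ, hd⟩ := hram i
      have hne : C l * h + C μ * r ≠ 0 := fun e => by
        obtain ⟨h1, h2⟩ := hind l μ e
        exact hlμ.elim (· h1) (· h2)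
      exact ⟨_, hself l μ, hne, (le_rootMultiplicity_iff hne).2 hd⟩
    · intro s hs hs0
      obtain ⟨l, μ, rfl⟩ := (hmem s).1 hs
      by_contra hlt
      push_neg at hlt
      refine hkey i l μ ?_ (Or.inl ((le_rootMultiplicity_iff hs0).1 hlt))
      by_contra h0
      push_neg at h0
      exact hs0 (by simp [h0.1, h0.2])

/-- A pair with the expected Wronskian and distinct degrees, also at infinity. -/
theorem span_mem_ramMaps (hc : Function.Injective c) (hE : ∀ i, 2 ≤ E i) {a : k} (ha : a ≠ 0)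
    (h r : k[X]) (hW : wronskian h r = C a * Wr c E) {D : ℕ} (hh : h.natDegree < D) (hr : r.natDegree = D)
    (hram : ∀ i, ∃ l μ : k, (l ≠ 0 ∨ μ ≠ 0) ∧ (X - C (c i)) ^ E i ∣ C l * h + C μ * r) :
    Submodule.span k {h, r} ∈ ramMaps D c E ∧ HasRamIdxInf D (Submodule.span k {h, r}) (D - h.natDegree) := by
  have hh0 : h ≠ 0 := fun e => (mul_ne_zero (C_ne_zero.2 ha) (monic_Wr c E).ne_zero)
    (by rw [← hW, e, wronskian_zero_left])
  refine ⟨mem_ramMaps_of_wronskian c E hc hE ha h r hW hh.le hr.le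
    ⟨r, Submodule.subset_span (by simp), hr⟩ hram, ?_, ?_⟩
  · exact ⟨h, Submodule.subset_span (by simp), hh0, by omega⟩
  · intro s hs hs0
    obtain ⟨l, μ, rfl⟩ := Submodule.mem_span_pair.1 hs
    simp only [smul_eq_C_mul] at hs0 ⊢
    rcases eq_or_ne μ 0 with rfl | hμ
    · have hl : l ≠ 0 := fun h0 => hs0 (by simp [h0])
      rw [C_0, zero_mul, add_zero, natDegree_C_mul hl]
      omega
    · have : (C l * h + C μ * r).natDegree = D := by
        rw [natDegree_add_eq_right_of_natDegree_lt, natDegree_C_mul hμ, hr]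
        rw [natDegree_C_mul hμ, hr]
        exact (natDegree_C_mul_le _ _).trans_lt hh
      omega

end Target

section DVR

variable (p : ℕ) [Fact p.Prime]
variable {A : Type u} [CommRing A] [IsDomain A] [IsDiscreteValuationRing A]
variable {K : Type u} [Field K] [Algebra A K] [IsFractionRing A K]

theorem charP_residueField [CharP A p] : CharP (IsLocalRing.ResidueField A) p := by
  refine (CharP.charP_iff_prime_eq_zero (Fact.out : p.Prime)).2 ?_
  rw [← map_natCast (IsLocalRing.residue A), CharP.cast_eq_zero, map_zero]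

theorem charP_fraction [CharP A p] : CharP K p :=
  charP_of_injective_algebraMap (IsFractionRing.injective A K) p

/-- The ramification at a point passes to the special fibre. -/
theorem ram_limit [CharP A p] [CharP K p] (F G H R : A[X])
    (hFc : ∃ a b : A[X], derivative a = 0 ∧ derivative b = 0 ∧ F = a * H + b * R)
    (hGc : ∃ a b : A[X], derivative a = 0 ∧ derivative b = 0 ∧ G = a * H + b * R)
    (P : A) (e : ℕ) (he : e < p)
    (hram : HasRamIdx (Submodule.span K {F.map (algebraMap A K), G.map (algebraMap A K)}) (algebraMap A K P) e)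
    (r T : (IsLocalRing.ResidueField A)[X]) (hT : derivative T = 0)
    (hrT : R.map (IsLocalRing.residue A) = r + T * H.map (IsLocalRing.residue A)) :
    ∃ l μ : IsLocalRing.ResidueField A, (l ≠ 0 ∨ μ ≠ 0) ∧
      (X - C (IsLocalRing.residue A P)) ^ e ∣ C l * H.map (IsLocalRing.residue A) + C μ * r := by
  have := charP_residueField p (A := A)
  obtain ⟨⟨s, hs, hs0, hse⟩, hmax⟩ := hram
  have hds := (le_rootMultiplicity_iff hs0).1 hse
  obtain ⟨l, μ, hlμ⟩ := Submodule.mem_span_pair.1 hs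
  obtain ⟨a, b, ha, hb, hF⟩ := hFc
  obtain ⟨c', e', hc, he', hG⟩ := hGc
  let q : K[X] := X - C (algebraMap A K P)
  let α : K[X] := C l * a.map (algebraMap A K) + C μ * c'.map (algebraMap A K)
  let β : K[X] := C l * b.map (algebraMap A K) + C μ * e'.map (algebraMap A K)
  let H' : K[X] := H.map (algebraMap A K)
  let R' : K[X] := R.map (algebraMap A K)
  have hα : derivative α = 0 := by
    simp [α, derivative_map, ha, hc]
  have hβ : derivative β = 0 := by
    simp [β, derivative_map, hb, he']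
  have hsum : s = α * H' + β * R' := by
    rw [← hlμ, hF, hG]
    simp only [α, β, H', R', smul_eq_C_mul, Polynomial.map_add, Polynomial.map_mul]
    ring
  let α₀ := α.eval (algebraMap A K P)
  let β₀ := β.eval (algebraMap A K P)
  have hdiff : q ^ p ∣ s - (C α₀ * H' + C β₀ * R') := by
    have e1 : s - (C α₀ * H' + C β₀ * R') = (α - C α₀) * H' + (β - C β₀) * R' := by rw [hsum]; ring
    rw [e1]
    exact dvd_add (dvd_mul_of_dvd_left (pow_char_dvd_sub_C_eval p hα _) _)
      (dvd_mul_of_dvd_left (pow_char_dvd_sub_C_eval p hβ _) _)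
  have hd : q ^ e ∣ C α₀ * H' + C β₀ * R' := by
    have := dvd_sub hds ((pow_dvd_pow q he.le).trans hdiff)
    rwa [sub_sub_cancel] at this
  have hnz : α₀ ≠ 0 ∨ β₀ ≠ 0 := by
    by_contra h
    push_neg at h
    rw [h.1, h.2, C_0, zero_mul, zero_mul, add_zero, sub_zero] at hdiff
    have := (hmax s hs hs0).trans_lt he
    exact absurd ((le_rootMultiplicity_iff hs0).2 hdiff) (not_le.2 this)
  have hA : ∃ x y : A, (x = 1 ∨ y = 1) ∧ (X - C P) ^ e ∣ C x * H + C y * R := by
    have back : ∀ x y : A, q ^ e ∣ C (algebraMap A K x) * H' + C (algebraMap A K y) * R' →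
        (X - C P) ^ e ∣ C x * H + C y * R := by
      intro x y h
      refine (map_dvd_map (algebraMap A K) (IsFractionRing.injective A K) ((monic_X_sub_C P).pow e)).1 ?_
      simpa [q, H', R'] using h
    by_cases hb0 : β₀ = 0
    · refine ⟨1, 0, Or.inl rfl, back _ _ ?_⟩
      have ha0 : α₀ ≠ 0 := hnz.resolve_right (not_not.2 hb0)
      rw [hb0, C_0, zero_mul, add_zero, (isUnit_C.2 (Ne.isUnit ha0)).dvd_mul_left] at hd
      simpa using hd
    have hscale : ∀ z : K, q ^ e ∣ C (z * α₀) * H' + C (z * β₀) * R' := fun z => by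
      have := dvd_mul_of_dvd_right hd (C z)
      rwa [mul_add, ← mul_assoc, ← mul_assoc, ← C_mul, ← C_mul] at this
    rcases ValuationRing.isInteger_or_isInteger A (α₀ / β₀) with ⟨x, hx⟩ | ⟨x, hx⟩
    · refine ⟨x, 1, Or.inr rfl, back _ _ ?_⟩
      convert hscale β₀⁻¹ using 2
      · rw [hx, div_eq_inv_mul]
      · rw [map_one, inv_mul_cancel₀ hb0]
    · by_cases ha0 : α₀ = 0
      · refine ⟨0, 1, Or.inr rfl, back _ _ ?_⟩
        convert hscale β₀⁻¹ using 2
        · rw [map_zero, ha0, mul_zero]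
        · rw [map_one, inv_mul_cancel₀ hb0]
      · refine ⟨1, x, Or.inl rfl, back _ _ ?_⟩
        convert hscale α₀⁻¹ using 2
        · rw [map_one, inv_mul_cancel₀ ha0]
        · rw [hx, inv_div, div_eq_inv_mul]
  obtain ⟨x, y, hxy, hdA⟩ := hA
  let res := IsLocalRing.residue A
  have hdk := Polynomial.map_dvd res hdA
  simp only [Polynomial.map_pow, Polynomial.map_sub, map_X, map_C, Polynomial.map_add, Polynomial.map_mul] at hdk
  refine ⟨res x + res y * T.eval (res P), res y, ?_, ?_⟩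
  · rcases hxy with rfl | rfl
    · by_cases h : res y = 0
      · exact Or.inl (by simp [h, res])
      · exact Or.inr h
    · exact Or.inr (by simp [res])
  · have hT' := (pow_dvd_pow (X - C (res P)) he.le).trans (pow_char_dvd_sub_C_eval p hT (res P))
    have := dvd_sub hdk (dvd_mul_of_dvd_left (dvd_mul_of_dvd_right hT' (C (res y))) (H.map res))
    convert this using 1
    rw [hrT, C_add, C_mul]
    ring

/-- The common factor of the special fibre of an inseparable limit. -/
theorem limit_degree {k : Type u} [Field k] [CharP k p] (d : ℕ) (hd : 1 ≤ d) (f g h hs rs : k[X])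
    (hf : f.natDegree ≤ d) (hg : g.natDegree ≤ d) (hfg : LinearIndependent k ![f, g])
    (h1 : ∃ t, derivative t = 0 ∧ f = t * h) (h2 : ∃ t, derivative t = 0 ∧ g = t * h)
    (h1' : ∃ t, derivative t = 0 ∧ reflect d f = t * hs) (h2' : ∃ t, derivative t = 0 ∧ reflect d g = t * hs)
    (hw : (wronskian hs rs).coeff 0 ≠ 0) :
    ∃ m ε : ℕ, 1 ≤ m ∧ ε ≤ 1 ∧ h.natDegree + m * p + ε = d := by
  have hord : hs.natTrailingDegree ≤ 1 := by
    by_contra hlt
    push_neg at hlt
    refine hw ?_
    have e0 : hs.coeff 0 = 0 := coeff_eq_zero_of_lt_natTrailingDegree (by omega)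
    have e1 : hs.coeff 1 = 0 := coeff_eq_zero_of_lt_natTrailingDegree (by omega)
    simp [wronskian, mul_coeff_zero, coeff_derivative, e0, e1]
  obtain ⟨f₀, hf₀, t, ht, hft, htpos, t', ht', hft'⟩ : ∃ f₀ : k[X], f₀.natDegree ≤ d ∧
      ∃ t, derivative t = 0 ∧ f₀ = t * h ∧ 0 < t.natDegree ∧ ∃ t', derivative t' = 0 ∧ reflect d f₀ = t' * hs := by
    obtain ⟨t, ht, hft⟩ := h1
    obtain ⟨u, hu, hgu⟩ := h2
    by_cases h0 : 0 < t.natDegree
    · exact ⟨f, hf, t, ht, hft, h0, h1'⟩
    by_cases h0' : 0 < u.natDegree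
    · exact ⟨g, hg, u, hu, hgu, h0', h2'⟩
    exfalso
    rw [eq_C_of_natDegree_le_zero (not_lt.1 h0)] at hft
    rw [eq_C_of_natDegree_le_zero (not_lt.1 h0')] at hgu
    have := LinearIndependent.pair_iff.1 hfg (u.coeff 0) (-t.coeff 0) (by
      rw [hft, hgu, smul_eq_C_mul, smul_eq_C_mul, C_neg]; ring)
    have hf0 : f ≠ 0 := hfg.ne_zero 0
    exact hf0 (by rw [hft, neg_eq_zero.1 this.2, C_0, zero_mul])
  have hne : f₀ ≠ 0 := by
    rintro rfl
    rcases mul_eq_zero.1 hft.symm with h0 | h0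
    · simp [h0] at htpos
    · obtain ⟨t₁, -, ht₁⟩ := h1
      exact hfg.ne_zero 0 (show f = 0 by rw [ht₁, h0, mul_zero])
  obtain ⟨htne, hhne⟩ : t ≠ 0 ∧ h ≠ 0 := mul_ne_zero_iff.1 (hft ▸ hne)
  obtain ⟨ht'ne, hhsne⟩ : t' ≠ 0 ∧ hs ≠ 0 :=
    mul_ne_zero_iff.1 (hft' ▸ (by rwa [ne_eq, reflect_eq_zero_iff]))
  have e1 : f₀.natDegree = t.natDegree + h.natDegree := by rw [hft, natDegree_mul htne hhne]
  have e2 : d - f₀.natDegree = t'.natTrailingDegree + hs.natTrailingDegree := by
    rw [← natTrailingDegree_reflect p hne hf₀, hft', natTrailingDegree_mul ht'ne hhsne]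
  obtain ⟨j, hj⟩ := dvd_natDegree_of_derivative_eq_zero p ht
  obtain ⟨i, hi⟩ := dvd_natTrailingDegree_of_derivative_eq_zero p ht'
  refine ⟨j + i, hs.natTrailingDegree, ?_, hord, ?_⟩
  · rcases j with _ | j
    · omega
    · omega
  · rw [add_mul, mul_comm j, mul_comm i]
    omega

end DVR

theorem exists_special (p : ℕ) [Fact p.Prime] {A : Type u} [CommRing A] [IsDomain A] [IsDiscreteValuationRing A]
    [CharP A p] {K : Type u} [Field K] [Algebra A K] [IsFractionRing A K]
    (ι : IsLocalRing.ResidueField A →+* A) (hι : ∀ x, IsLocalRing.residue A (ι x) = x)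
    (d n : ℕ) (e : Fin n → ℕ) (he : Admissible p d e) (hlt : ∀ i, e i < p)
    (P : Fin n → A) (F G : A[X]) (hF : F.natDegree ≤ d) (hG : G.natDegree ≤ d)
    (hind : LinearIndependent (IsLocalRing.ResidueField A)
      ![F.map (IsLocalRing.residue A), G.map (IsLocalRing.residue A)])
    (hgen : Submodule.span K {F.map (algebraMap A K), G.map (algebraMap A K)} ∈
      ramMaps d (fun i => algebraMap A K (P i)) e)
    (hinsep : ¬ IsSeparable (Submodule.span (IsLocalRing.ResidueField A)
        {F.map (IsLocalRing.residue A), G.map (IsLocalRing.residue A)}))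
    (hdist : Function.Injective (fun i => IsLocalRing.residue A (P i))) :
    ∃ m ε : ℕ, 1 ≤ m ∧ m * p ≤ d ∧ ε ≤ 1 ∧
      ∃ V ∈ ramMaps (d + m * p - 1 + ε) (fun i => IsLocalRing.residue A (P i)) e,
        HasRamIdxInf (d + m * p - 1 + ε) V (2 * m * p - 1 + 2 * ε) := by
  classical
  have := charP_residueField p (A := A)
  have := charP_fraction p (A := A) (K := K)
  let res := IsLocalRing.residue A
  let φ := algebraMap A K
  have hφ : Function.Injective φ := IsFractionRing.injective A K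
  obtain ⟨π, hπ⟩ := IsDiscreteValuationRing.exists_irreducible A
  have hker : ∀ a, res a = 0 ↔ π ∣ a := fun a => by
    rw [IsLocalRing.residue_eq_zero_iff, hπ.maximalIdeal_eq, Ideal.mem_span_singleton]
  obtain ⟨hesum, hd⟩ : ∑ i, (e i - 1) = 2 * d - 2 ∧ 1 ≤ d := by
    obtain ⟨he1, he2⟩ := he
    have h1 : ∑ i, (e i - 1) + n = ∑ i, e i := by
      calc ∑ i, (e i - 1) + n = ∑ i, ((e i - 1) + 1) := by rw [Finset.sum_add_distrib]; simp
        _ = ∑ i, e i := Finset.sum_congr rfl fun i _ => by have := (he1 i).1; omega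
    omega
  obtain ⟨-, ⟨s₁, hs₁, s₂, hs₂, hsep⟩, hram⟩ := hgen
  have hcombW : ∀ s₁ ∈ Submodule.span K {F.map φ, G.map φ}, ∀ s₂ ∈ Submodule.span K {F.map φ, G.map φ},
      ∃ z : K, wronskian s₁ s₂ = C z * wronskian (F.map φ) (G.map φ) := by
    intro s₁ h₁ s₂ h₂
    obtain ⟨l, μ, rfl⟩ := Submodule.mem_span_pair.1 h₁
    obtain ⟨l', μ', rfl⟩ := Submodule.mem_span_pair.1 h₂
    refine ⟨l * μ' - μ * l', ?_⟩
    simp only [smul_eq_C_mul]
    rw [wronskian_comb _ _ _ _ _ _ derivative_C derivative_C derivative_C derivative_C, C_sub, C_mul, C_mul]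
  have hWne : wronskian F G ≠ 0 := by
    intro h
    obtain ⟨z, hz⟩ := hcombW s₁ hs₁ s₂ hs₂
    rw [wronskian_map, h, Polynomial.map_zero, mul_zero] at hz
    exact hsep hz
  have hnu : ¬ IsUnit (C π : A[X]) := fun h => hπ.not_isUnit (isUnit_C.1 h)
  obtain ⟨ν, W₀, hW₀n, hW⟩ := WfDvdMonoid.max_power_factor' hWne hnu
  rw [← C_pow] at hW
  have hW₀ : W₀.map res ≠ 0 := fun h => hW₀n ((C_dvd_iff_dvd_coeff _ _).2 fun i => (hker _).1 (by
    rw [← coeff_map, h, coeff_zero]))
  -- the Wronskian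
  have hdvdK : Wr (fun i => φ (P i)) e ∣ (wronskian F G).map φ := by
    refine Finset.prod_dvd_of_coprime (fun i _ j _ hij => ?_) fun i _ => ?_
    · exact (pairwise_coprime_X_sub_C (fun a b h => hdist (congrArg res (hφ h))) hij).pow
    · obtain ⟨⟨s, hs, hs0, hse⟩, -⟩ := hram i
      have hds := (le_rootMultiplicity_iff hs0).1 hse
      obtain ⟨l, μ, hlμ⟩ := Submodule.mem_span_pair.1 hs
      simp only [smul_eq_C_mul] at hlμ
      rw [← wronskian_map]
      rcases eq_or_ne l 0 with rfl | hl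
      · rw [C_0, zero_mul, zero_add] at hlμ
        have hμ : μ ≠ 0 := fun h => hs0 (by rw [← hlμ, h, C_0, zero_mul])
        have h' := pow_dvd_wronskian_of_pow_dvd (Q := F.map φ) hds
        rw [← hlμ, wronskian_mul_left_const _ _ _ derivative_C, (isUnit_C.2 (Ne.isUnit hμ)).dvd_mul_left,
          ← wronskian_neg_eq, dvd_neg] at h'
        exact h'
      · have h' := pow_dvd_wronskian_of_pow_dvd (Q := G.map φ) hds
        rw [← hlμ, wronskian_add_left, wronskian_mul_left_const _ _ _ derivative_C,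
          wronskian_mul_left_const _ _ _ derivative_C, wronskian_self_eq_zero, mul_zero, add_zero,
          (isUnit_C.2 (Ne.isUnit hl)).dvd_mul_left] at h'
        exact h'
  let PA : A[X] := ∏ i, (X - C (P i)) ^ (e i - 1)
  have hPAmonic : PA.Monic := monic_prod_of_monic _ _ fun i _ => (monic_X_sub_C _).pow _
  have hπne : π ^ ν ≠ 0 := pow_ne_zero _ hπ.ne_zero
  have hdvd : PA ∣ W₀ := by
    refine (map_dvd_map φ hφ hPAmonic).1 ?_
    have : PA.map φ = Wr (fun i => φ (P i)) e := by simp [PA, Wr, Polynomial.map_prod]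
    rw [this]
    rw [hW, Polynomial.map_mul, map_C] at hdvdK
    exact (isUnit_C.2 (Ne.isUnit ((map_ne_zero_iff φ hφ).2 hπne))).dvd_mul_left.1 hdvdK
  obtain ⟨Q, hQ⟩ := hdvd
  have hQne : Q ≠ 0 := fun h => hW₀ (by rw [hQ, h, mul_zero, Polynomial.map_zero])
  have hQ0 : Q.natDegree = 0 := by
    have h1 : W₀.natDegree ≤ 2 * d - 2 := by
      have := natDegree_wronskian_le F G d hF hG
      rwa [hW, natDegree_C_mul hπne] at this
    have h2 : PA.natDegree = 2 * d - 2 := by
      rw [natDegree_prod_of_monic _ _ fun i _ => (monic_X_sub_C _).pow _, ← hesum]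
      simp
    rw [hQ, natDegree_mul hPAmonic.ne_zero hQne] at h1
    omega
  let c : Fin n → IsLocalRing.ResidueField A := fun i => res (P i)
  let a := res (Q.coeff 0)
  have hw : W₀.map res = C a * Wr c e := by
    rw [hQ, eq_C_of_natDegree_le_zero hQ0.le, Polynomial.map_mul, map_C, mul_comm]
    simp [PA, Wr, Polynomial.map_prod, a, c]
  have ha : a ≠ 0 := fun h => hW₀ (by rw [hw, h, C_0, zero_mul])
  have hwdeg : (W₀.map res).natDegree = 2 * d - 2 := by
    rw [hw, natDegree_C_mul ha, natDegree_Wr, hesum]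
  -- inseparability
  have hν : ν ≠ 0 := by
    rintro rfl
    refine hinsep ⟨_, Submodule.subset_span (Set.mem_insert _ _), _,
      Submodule.subset_span (Set.mem_insert_of_mem _ rfl), ?_⟩
    rw [wronskian_map, hW, Polynomial.map_mul, map_C, pow_zero, map_one, C_1, one_mul]
    exact hW₀
  have hf0 : F.map res ≠ 0 := hind.ne_zero 0
  obtain ⟨H, R, hWHR, h1, h2, hFc, hGc⟩ :=
    descent p π res ι hπ.ne_zero hker hι ν F G W₀ hf0 hW hW₀
  have hFs : (reflect d F).map res ≠ 0 := by rwa [reflect_map', ne_eq, reflect_eq_zero_iff]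
  have hWs : wronskian (reflect d F) (reflect d G) = C (π ^ ν) * -reflect (2 * d - 2) W₀ := by
    rw [wronskian_reflect F G d hF hG, hW, reflect_C_mul, mul_neg]
  have hWs₀ : ((-reflect (2 * d - 2) W₀).map res).coeff 0 ≠ 0 := by
    rw [Polynomial.map_neg, reflect_map', coeff_neg, neg_ne_zero, coeff_reflect, revAt_le (Nat.zero_le _),
      Nat.sub_zero, ← hwdeg]
    exact leadingCoeff_ne_zero.2 hW₀
  obtain ⟨Hs, Rs, hWs', h1', h2', -, -⟩ :=
    descent p π res ι hπ.ne_zero hker hι ν _ _ _ hFs hWs (fun h => hWs₀ (by rw [h, coeff_zero]))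
  rw [reflect_map'] at h1'
  obtain ⟨t₂, ht₂, h2'⟩ := h2' hν
  rw [reflect_map'] at h2'
  obtain ⟨m, ε, hm, hε, hdeg⟩ := limit_degree p d hd (F.map res) (G.map res) (H.map res) (Hs.map res) (Rs.map res)
    (natDegree_map_le.trans hF) (natDegree_map_le.trans hG) hind h1 (h2 hν) h1' ⟨t₂, ht₂, h2'⟩
    (by rwa [wronskian_map, hWs'])
  have hmp : 2 ≤ m * p := le_trans (Fact.out : p.Prime).two_le (Nat.le_mul_of_pos_left p hm)
  obtain ⟨r, T, hT, hrT, hWr, hsum⟩ := exists_partner p (H.map res) (R.map res) (W₀.map res) d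
    (by rw [wronskian_map, hWHR]) hW₀ hwdeg hd (by omega)
  have hD : r.natDegree = d + m * p - 1 + ε := by omega
  have hle : ∀ i, 2 ≤ e i := fun i => (he.1 i).1
  obtain ⟨hV, hinf⟩ := span_mem_ramMaps c e hdist hle ha (H.map res) r (hWr.trans hw)
    (D := d + m * p - 1 + ε) (by omega) hD
    fun i => ram_limit p F G H R hFc hGc (P i) (e i) (hlt i) (hram i) r T hT hrT
  refine ⟨m, ε, hm, by omega, hε, _, hV, ?_⟩
  have e' : d + m * p - 1 + ε - (H.map res).natDegree = 2 * m * p - 1 + 2 * ε := by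
    rw [mul_assoc 2 m p]
    omega
  rwa [e'] at hinf

end GrothLib.InsepLimit
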