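import Groth.Agent.Lib.InsepLimit.Main
import Mathlib.FieldTheory.IsAlgClosed.Basic
import Mathlib.RingTheory.Polynomial.Basic

/-!
# Pencils with three ramification points
-/

set_option autoImplicit false

universe u

open Polynomial W4c1limliniiii

namespace GrothLib.InsepLimit

variable {k : Type u} [Field k] (d : ℕ) (P : Fin 3 → k) (e : Fin 3 → ℕ)

/-- Three members of a pencil, ramified at the given points, adding up to zero. -/
structure Rel (A B : k[X]) : Prop where
  degA : A.natDegree ≤ d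
  degB : B.natDegree ≤ d
  dvd0 : (X - C (P 0)) ^ e 0 ∣ A
  dvd1 : (X - C (P 1)) ^ e 1 ∣ B
  dvd2 : (X - C (P 2)) ^ e 2 ∣ A + B

variable {d P e}

theorem eq_zero_of_two_dvd (hP : Function.Injective P) (i j : Fin 3) (hij : i ≠ j) (hlt : d < e i + e j) {S : k[X]}
    (hS : S.natDegree ≤ d) (hi : (X - C (P i)) ^ e i ∣ S) (hj : (X - C (P j)) ^ e j ∣ S) : S = 0 := by
  by_contra h0
  have h := natDegree_le_of_dvd ((pairwise_coprime_X_sub_C hP hij).pow.mul_dvd hi hj) h0
  rw [natDegree_mul (pow_ne_zero _ (X_sub_C_ne_zero _)) (pow_ne_zero _ (X_sub_C_ne_zero _)),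
    natDegree_pow, natDegree_pow, natDegree_X_sub_C, natDegree_X_sub_C] at h
  omega

variable (hP : Function.Injective P) (hsum : e 0 + e 1 + e 2 = 2 * d + 1) (hle : ∀ i, e i ≤ d)
include hP hsum hle

theorem two_lt (i j : Fin 3) (hij : i ≠ j) : d < e i + e j := by
  have h0 := hle 0; have h1 := hle 1; have h2 := hle 2
  fin_cases i <;> fin_cases j <;> simp at hij ⊢ <;> omega

theorem Rel.indep {A B : k[X]} (h : Rel d P e A B) (hne : A ≠ 0 ∨ B ≠ 0) :
    A ≠ 0 ∧ B ≠ 0 ∧ ∀ l μ : k, C l * A + C μ * B = 0 → l = 0 ∧ μ = 0 := by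
  have tl := two_lt hP hsum hle
  have hA : A ≠ 0 := fun h0 => hne.elim (· h0) (· (eq_zero_of_two_dvd hP 1 2 (by decide) (tl _ _ (by decide))
    h.degB h.dvd1 (by simpa [h0] using h.dvd2)))
  have hB : B ≠ 0 := fun h0 => hA (eq_zero_of_two_dvd hP 0 2 (by decide) (tl _ _ (by decide))
    h.degA h.dvd0 (by simpa [h0] using h.dvd2))
  refine ⟨hA, hB, fun l μ e0 => ?_⟩
  rcases eq_or_ne μ 0 with rfl | hμ
  · rw [C_0, zero_mul, add_zero, mul_eq_zero, C_eq_zero] at e0
    exact ⟨e0.resolve_right hA, rfl⟩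
  · exfalso
    refine hB (eq_zero_of_two_dvd hP 0 1 (by decide) (tl _ _ (by decide)) h.degB ?_ h.dvd1)
    have : C μ * B = -(C l * A) := by linear_combination e0
    have h' : (X - C (P 0)) ^ e 0 ∣ C μ * B := this ▸ (dvd_neg.2 (dvd_mul_of_dvd_right h.dvd0 _))
    exact (isUnit_C.2 (Ne.isUnit hμ)).dvd_mul_left.1 h'

theorem Rel.cross {A B A' B' : k[X]} (h : Rel d P e A B) (h' : Rel d P e A' B') : A * B' = A' * B := by
  rw [← sub_eq_zero]
  by_contra h0
  have d0 : (X - C (P 0)) ^ e 0 ∣ A * B' - A' * B :=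
    dvd_sub (dvd_mul_of_dvd_left h.dvd0 _) (dvd_mul_of_dvd_left h'.dvd0 _)
  have d1 : (X - C (P 1)) ^ e 1 ∣ A * B' - A' * B :=
    dvd_sub (dvd_mul_of_dvd_right h'.dvd1 _) (dvd_mul_of_dvd_right h.dvd1 _)
  have d2 : (X - C (P 2)) ^ e 2 ∣ A * B' - A' * B := by
    have : A * B' - A' * B = (A + B) * B' - (A' + B') * B := by ring
    rw [this]
    exact dvd_sub (dvd_mul_of_dvd_left h.dvd2 _) (dvd_mul_of_dvd_left h'.dvd2 _)
  have hall : (∏ i, (X - C (P i)) ^ e i) ∣ A * B' - A' * B :=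
    Finset.prod_dvd_of_coprime (fun i _ j _ hij => (pairwise_coprime_X_sub_C hP hij).pow)
      (fun i _ => by fin_cases i <;> assumption)
  have hdeg := natDegree_le_of_dvd hall h0
  rw [natDegree_prod_of_monic _ _ fun i _ => (monic_X_sub_C _).pow _] at hdeg
  simp [Fin.sum_univ_three] at hdeg
  have h1 : (A * B' - A' * B).natDegree ≤ 2 * d := (natDegree_sub_le _ _).trans (max_le
    (natDegree_mul_le.trans (by have := h.degA; have := h'.degB; omega))
    (natDegree_mul_le.trans (by have := h'.degA; have := h.degB; omega)))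
  omega

theorem exists_rel : ∃ A B : k[X], Rel d P e A B ∧ (A ≠ 0 ∨ B ≠ 0) := by
  let q : Fin 3 → k[X] := fun i => (X - C (P i)) ^ e i
  let M := (degreeLT k (d + 1 - e 0)) × (degreeLT k (d + 1 - e 1)) × (degreeLT k (d + 1 - e 2))
  let f : M →ₗ[k] k[X] :=
    ((LinearMap.mulLeft k (q 0)).comp (degreeLT k (d + 1 - e 0)).subtype).coprod
      (((LinearMap.mulLeft k (q 1)).comp (degreeLT k (d + 1 - e 1)).subtype).coprod
        ((LinearMap.mulLeft k (q 2)).comp (degreeLT k (d + 1 - e 2)).subtype))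
  have hfin : ∀ m, Module.Finite k (degreeLT k m) := fun m => Module.Finite.equiv (degreeLTEquiv k m).symm
  have := hfin (d + 1)
  have := hfin (d + 1 - e 0)
  have := hfin (d + 1 - e 1)
  have := hfin (d + 1 - e 2)
  have hdim : ∀ m, Module.finrank k (degreeLT k m) = m := fun m => by
    rw [(degreeLTEquiv k m).finrank_eq, Module.finrank_fin_fun]
  have hdeg : ∀ i (a : k[X]), a ∈ degreeLT k (d + 1 - e i) → (q i * a).natDegree ≤ d := by
    intro i a ha
    rcases eq_or_ne a 0 with rfl | h0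
    · simp
    rw [mem_degreeLT, degree_eq_natDegree h0, Nat.cast_lt] at ha
    rw [natDegree_mul (pow_ne_zero _ (X_sub_C_ne_zero _)) h0]
    simp [q]
    omega
  have hrange : LinearMap.range f ≤ degreeLT k (d + 1) := by
    rintro _ ⟨⟨a, b, c⟩, rfl⟩
    rw [mem_degreeLT]
    have : (f (a, b, c)).natDegree ≤ d := natDegree_add_le_of_degree_le (hdeg 0 a a.2)
      (natDegree_add_le_of_degree_le (hdeg 1 b b.2) (hdeg 2 c c.2))
    exact degree_le_natDegree.trans_lt (Nat.cast_lt.2 (Nat.lt_succ_of_le this))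
  have hM : d + 1 < Module.finrank k M := by
    simp only [M, Module.finrank_prod, hdim]
    have h0 := hle 0; have h1 := hle 1; have h2 := hle 2
    omega
  have hker : LinearMap.ker f ≠ ⊥ := fun h => by
    have h1 := LinearMap.finrank_range_add_finrank_ker f
    have h2 := Submodule.finrank_mono hrange
    rw [h, finrank_bot, add_zero] at h1
    rw [hdim] at h2
    omega
  obtain ⟨⟨a, b, c⟩, hz, hne⟩ := Submodule.exists_mem_ne_zero_of_ne_bot hker
  have hz' : q 0 * a + (q 1 * b + q 2 * c) = 0 := LinearMap.mem_ker.1 hz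
  refine ⟨q 0 * a, q 1 * b, ⟨hdeg 0 a a.2, hdeg 1 b b.2, dvd_mul_right _ _, dvd_mul_right _ _,
    ⟨-c, by linear_combination hz'⟩⟩, ?_⟩
  by_contra h
  push_neg at h
  have hq : ∀ i, q i ≠ 0 := fun i => pow_ne_zero _ (X_sub_C_ne_zero _)
  rw [h.1, h.2, zero_add, zero_add] at hz'
  apply hne
  ext1
  · exact Subtype.ext ((mul_eq_zero.1 h.1).resolve_left (hq 0))
  ext1
  · exact Subtype.ext ((mul_eq_zero.1 h.2).resolve_left (hq 1))
  · exact Subtype.ext ((mul_eq_zero.1 hz').resolve_left (hq 2))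

theorem exists_rel_of_cond (V : Submodule k k[X]) (hV : V ≤ degreeLE k d) (hfr : Module.finrank k V = 2)
    (hs : ∀ i, ∃ s ∈ V, s ≠ 0 ∧ e i ≤ rootMultiplicity (P i) s) :
    ∃ A B : k[X], Rel d P e A B ∧ (A ≠ 0 ∨ B ≠ 0) ∧ Submodule.span k {A, B} = V := by
  have : Module.Finite k V := Module.finite_of_finrank_eq_succ hfr
  choose s hs hs0 hse using hs
  have hd : ∀ i, (X - C (P i)) ^ e i ∣ s i := fun i => (le_rootMultiplicity_iff (hs0 i)).1 (hse i)
  have hdeg : ∀ i, (s i).natDegree ≤ d := fun i => natDegree_le_iff_degree_le.2 (mem_degreeLE.1 (hV (hs i)))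
  have li : LinearIndependent k ![s 0, s 1] := by
    refine LinearIndependent.pair_iff.2 fun l μ e0 => ?_
    simp only [smul_eq_C_mul] at e0
    rcases eq_or_ne μ 0 with rfl | hμ
    · rw [C_0, zero_mul, add_zero, mul_eq_zero, C_eq_zero] at e0
      exact ⟨e0.resolve_right (hs0 0), rfl⟩
    · exfalso
      refine hs0 1 (eq_zero_of_two_dvd hP 0 1 (by decide) (two_lt hP hsum hle _ _ (by decide)) (hdeg 1) ?_ (hd 1))
      have : C μ * s 1 = -(C l * s 0) := by linear_combination e0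
      have h' : (X - C (P 0)) ^ e 0 ∣ C μ * s 1 := this ▸ (dvd_neg.2 (dvd_mul_of_dvd_right (hd 0) _))
      exact (isUnit_C.2 (Ne.isUnit hμ)).dvd_mul_left.1 h'
  have hspan : Submodule.span k {s 0, s 1} = V := by
    refine Submodule.eq_of_le_of_finrank_le (Submodule.span_le.2 ?_) ?_
    · rintro x (rfl | rfl) <;> exact hs _
    · have := finrank_span_eq_card li
      rw [Matrix.range_cons_cons_empty, Fintype.card_fin] at this
      omega
  obtain ⟨l, μ, hlμ⟩ := Submodule.mem_span_pair.1 (hspan.symm ▸ hs 2 : s 2 ∈ Submodule.span k {s 0, s 1})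
  have hl : l ≠ 0 := fun h => hs0 2 (eq_zero_of_two_dvd hP 1 2 (by decide) (two_lt hP hsum hle _ _ (by decide))
    (hdeg 2) (by rw [← hlμ, h, zero_smul, zero_add, smul_eq_C_mul]; exact dvd_mul_of_dvd_right (hd 1) _) (hd 2))
  have hμ : μ ≠ 0 := fun h => hs0 2 (eq_zero_of_two_dvd hP 0 2 (by decide) (two_lt hP hsum hle _ _ (by decide))
    (hdeg 2) (by rw [← hlμ, h, zero_smul, add_zero, smul_eq_C_mul]; exact dvd_mul_of_dvd_right (hd 0) _) (hd 2))
  refine ⟨l • s 0, μ • s 1, ⟨(natDegree_smul_le _ _).trans (hdeg 0), (natDegree_smul_le _ _).trans (hdeg 1),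
    by rw [smul_eq_C_mul]; exact dvd_mul_of_dvd_right (hd 0) _,
    by rw [smul_eq_C_mul]; exact dvd_mul_of_dvd_right (hd 1) _, hlμ.symm ▸ hd 2⟩,
    Or.inl (smul_ne_zero hl (hs0 0)), ?_⟩
  rw [← hspan, Submodule.span_insert, Submodule.span_insert, Submodule.span_singleton_smul_eq (Ne.isUnit hl),
    Submodule.span_singleton_smul_eq (Ne.isUnit hμ)]

theorem Rel.span_eq [IsAlgClosed k] {V : Submodule k k[X]} (hV : V ∈ ramMaps d P e) {A B : k[X]}
    (h : Rel d P e A B) (hne : A ≠ 0 ∨ B ≠ 0) : Submodule.span k {A, B} = V := by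
  obtain ⟨⟨hle', hfr, ⟨t, ht, htd⟩, hbp⟩, -, hram⟩ := hV
  obtain ⟨A₀, B₀, h₀, hne₀, hsp⟩ := exists_rel_of_cond hP hsum hle V hle' hfr fun i => (hram i).1
  obtain ⟨hA₀, hB₀, -⟩ := h₀.indep hP hsum hle hne₀
  obtain ⟨hA, hB, -⟩ := h.indep hP hsum hle hne
  have hco : IsCoprime A₀ B₀ := by
    refine isCoprime_of_dvd _ _ (fun h => hA₀ h.1) fun z hz hz0 hzA hzB => ?_
    have hdeg : z.degree ≠ 0 := fun h => hz (isUnit_iff_degree_eq_zero.2 h)
    obtain ⟨x, hx⟩ := IsAlgClosed.exists_root z hdeg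
    obtain ⟨s, hs, hsx⟩ := hbp x
    rw [← hsp] at hs
    obtain ⟨l, μ, rfl⟩ := Submodule.mem_span_pair.1 hs
    exact hsx (by simp [(hx.dvd hzA).eq_zero, (hx.dvd hzB).eq_zero])
  have hc := h₀.cross hP hsum hle h
  obtain ⟨q, hq⟩ : A₀ ∣ A := hco.dvd_of_dvd_mul_right ⟨B, hc.symm⟩
  have hB' : B = q * B₀ := mul_left_cancel₀ hA₀ (by rw [hc, hq]; ring)
  have hq0 : q ≠ 0 := by rintro rfl; exact hA (by simpa using hq)
  have hdeg : q.natDegree = 0 := by
    have h1 : A₀.natDegree + q.natDegree ≤ d := by rw [← natDegree_mul hA₀ hq0, ← hq]; exact h.degA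
    have h2 : q.natDegree + B₀.natDegree ≤ d := by rw [← natDegree_mul hq0 hB₀, ← hB']; exact h.degB
    rw [← hsp] at ht
    obtain ⟨l, μ, rfl⟩ := Submodule.mem_span_pair.1 ht
    have h3 := natDegree_add_le (l • A₀) (μ • B₀)
    have h4 := natDegree_smul_le l A₀
    have h5 := natDegree_smul_le μ B₀
    omega
  rw [eq_C_of_natDegree_le_zero hdeg.le] at hq hB'
  have hc0 : q.coeff 0 ≠ 0 := fun h0 => hA (by rw [hq, h0, C_0, mul_zero])
  rw [← hsp, hq, hB', mul_comm A₀, ← smul_eq_C_mul, ← smul_eq_C_mul, Submodule.span_insert, Submodule.span_insert,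
    Submodule.span_singleton_smul_eq (Ne.isUnit hc0), Submodule.span_singleton_smul_eq (Ne.isUnit hc0)]

theorem subsingleton_ramMaps [IsAlgClosed k] : (ramMaps d P e).Subsingleton := by
  intro V hV V' hV'
  obtain ⟨A, B, h, hne, hsp⟩ := exists_rel_of_cond hP hsum hle V hV.1.1 hV.1.2.1 fun i => (hV.2.2 i).1
  rw [← hsp]
  exact h.span_eq hP hsum hle hV' hne

theorem Rel.mem_ramMaps (h2 : ∀ i, 2 ≤ e i) {A B : k[X]} (h : Rel d P e A B)
    (hW : wronskian A B ≠ 0) : Submodule.span k {A, B} ∈ ramMaps d P e := by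
  have hdvd : Wr P e ∣ wronskian A B := by
    refine Finset.prod_dvd_of_coprime (fun i _ j _ hij => (pairwise_coprime_X_sub_C hP hij).pow) fun i _ => ?_
    fin_cases i
    · exact pow_dvd_wronskian_of_pow_dvd h.dvd0
    · have := pow_dvd_wronskian_of_pow_dvd (Q := A) h.dvd1
      rwa [← wronskian_neg_eq, dvd_neg] at this
    · have := pow_dvd_wronskian_of_pow_dvd (Q := B) h.dvd2
      rwa [wronskian_add_left, wronskian_self_eq_zero, add_zero] at this
  obtain ⟨Q, hQ⟩ := hdvd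
  have hQ0 : Q ≠ 0 := fun h0 => hW (by rw [hQ, h0, mul_zero])
  have hWd : (Wr P e).natDegree = 2 * d - 2 := by
    rw [natDegree_Wr, Fin.sum_univ_three]
    have := h2 0; have := h2 1; have := h2 2
    omega
  have hd : 2 ≤ d := (h2 0).trans (hle 0)
  have hdeg := natDegree_wronskian_le A B d h.degA h.degB
  rw [hQ, natDegree_mul (monic_Wr P e).ne_zero hQ0] at hdeg
  have hQC := eq_C_of_natDegree_le_zero (p := Q) (by omega)
  have hQne : Q.coeff 0 ≠ 0 := fun h0 => hQ0 (by rw [hQC, h0, C_0])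
  refine mem_ramMaps_of_wronskian P e hP h2 hQne A B (by rw [hQ, mul_comm, ← hQC]) h.degA h.degB ?_ fun i => ?_
  · rcases eq_or_ne A.natDegree d with h' | h'
    · exact ⟨A, Submodule.subset_span (by simp), h'⟩
    refine ⟨B, Submodule.subset_span (by simp), le_antisymm h.degB ?_⟩
    have := natDegree_wronskian_lt_add hW
    rw [hQ, natDegree_mul (monic_Wr P e).ne_zero hQ0] at this
    have := h.degA
    omega
  · fin_cases i
    · exact ⟨1, 0, Or.inl one_ne_zero, by simpa using h.dvd0⟩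
    · exact ⟨0, 1, Or.inr one_ne_zero, by simpa using h.dvd1⟩
    · exact ⟨1, 1, Or.inl one_ne_zero, by simpa using h.dvd2⟩

theorem ramMaps_eq_empty_iff [IsAlgClosed k] (h2 : ∀ i, 2 ≤ e i) :
    ramMaps d P e = ∅ ↔
      ∃ V : Submodule k k[X], V ≤ degreeLE k d ∧ Module.finrank k V = 2 ∧ ¬ IsSeparable V ∧
        ∀ i, ∃ s ∈ V, s ≠ 0 ∧ e i ≤ rootMultiplicity (P i) s := by
  constructor
  · intro he
    obtain ⟨A, B, h, hne⟩ := exists_rel hP hsum hle
    obtain ⟨hA, hB, hind⟩ := h.indep hP hsum hle hne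
    have hAB : A + B ≠ 0 := fun h0 => one_ne_zero (hind 1 1 (by simpa using h0)).1
    refine ⟨Submodule.span k {A, B}, ?_, ?_, ?_, fun i => ?_⟩
    · refine Submodule.span_le.2 ?_
      rintro x (rfl | rfl)
      · exact mem_degreeLE.2 (natDegree_le_iff_degree_le.1 h.degA)
      · exact mem_degreeLE.2 (natDegree_le_iff_degree_le.1 h.degB)
    · have li : LinearIndependent k ![A, B] := LinearIndependent.pair_iff.2 fun l μ e0 => hind l μ (by
        simpa [smul_eq_C_mul] using e0)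
      have := finrank_span_eq_card li
      rwa [Matrix.range_cons_cons_empty, Fintype.card_fin] at this
    · rintro ⟨F, hF, G, hG, hFG⟩
      refine (Set.eq_empty_iff_forall_notMem.1 he) _ (h.mem_ramMaps hP hsum hle h2 fun hW => hFG ?_)
      obtain ⟨l, μ, rfl⟩ := Submodule.mem_span_pair.1 hF
      obtain ⟨l', μ', rfl⟩ := Submodule.mem_span_pair.1 hG
      simp only [smul_eq_C_mul]
      rw [wronskian_comb _ _ _ _ _ _ derivative_C derivative_C derivative_C derivative_C, hW, mul_zero]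
    · fin_cases i
      · exact ⟨A, Submodule.subset_span (by simp), hA, (le_rootMultiplicity_iff hA).2 h.dvd0⟩
      · exact ⟨B, Submodule.subset_span (by simp), hB, (le_rootMultiplicity_iff hB).2 h.dvd1⟩
      · exact ⟨A + B, add_mem (Submodule.subset_span (by simp)) (Submodule.subset_span (by simp)), hAB,
          (le_rootMultiplicity_iff hAB).2 h.dvd2⟩
  · rintro ⟨V, hV, hfr, hns, hs⟩
    refine Set.eq_empty_iff_forall_notMem.2 fun V' hV' => hns ?_
    obtain ⟨A, B, h, hne, hsp⟩ := exists_rel_of_cond hP hsum hle V hV hfr hs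
    rw [← hsp, h.span_eq hP hsum hle hV' hne]
    exact hV'.2.1

end GrothLib.InsepLimit
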